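import Mathlib
import Groth.Agent.QRegLib.Basic
import Groth.Agent.CotTLib.Relations

/-!
# Regular sequences are of linear type
-/

set_option autoImplicit false
universe u

open MvPolynomial

noncomputable section

namespace Groth.Agent.LinTypeLib

open Groth.Agent.QRegLib Groth.Agent.CotTLib

variable {A : Type u} [CommRing A]

/-- The ideal of Koszul relations. -/
def kos {n : ℕ} (a : Fin n → A) : Ideal (MvPolynomial (Fin n) A) :=
  Ideal.span {q | ∃ i j : Fin n, q = C (a i) * X j - C (a j) * X i}

theorem coeff_mem_of_mem_kos {n : ℕ} (a : Fin n → A) {P : MvPolynomial (Fin n) A} (h : P ∈ kos a)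
    (m : Fin n →₀ ℕ) : P.coeff m ∈ Ideal.span (Set.range a) := by
  have hle : kos a ≤ (Ideal.span (Set.range a)).map C := by
    refine Ideal.span_le.mpr ?_
    rintro _ ⟨i, j, rfl⟩
    exact sub_mem (Ideal.mul_mem_right _ _ (Ideal.mem_map_of_mem _ (Ideal.subset_span ⟨i, rfl⟩)))
      (Ideal.mul_mem_right _ _ (Ideal.mem_map_of_mem _ (Ideal.subset_span ⟨j, rfl⟩)))
  exact mem_map_C_iff.mp (hle h) m

theorem rename_mem_kos {n : ℕ} (a : Fin (n + 1) → A) {P : MvPolynomial (Fin n) A}
    (h : P ∈ kos (a ∘ Fin.castSucc)) : rename Fin.castSucc P ∈ kos a := by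
  have : (kos (a ∘ Fin.castSucc)).map (rename Fin.castSucc : MvPolynomial (Fin n) A →ₐ[A] _) ≤ kos a := by
    rw [kos, Ideal.map_span, Ideal.span_le]
    rintro _ ⟨_, ⟨i, j, rfl⟩, rfl⟩
    exact Ideal.subset_span ⟨i.castSucc, j.castSucc, by simp⟩
  exact this (Ideal.mem_map_of_mem _ h)

theorem exists_homogeneous_combination {n : ℕ} (a : Fin n → A) (d : ℕ) (y : A)
    (hy : y ∈ Ideal.span (Set.range a) ^ (d + 1)) :
    ∃ c : Fin n → A, (∀ j, c j ∈ Ideal.span (Set.range a) ^ d) ∧ y = ∑ j, a j * c j := by
  classical
  rw [pow_succ'] at hy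
  refine Submodule.mul_induction_on hy (fun x hx w hw => ?_) fun x z hx hz => ?_
  · obtain ⟨e, rfl⟩ := Submodule.mem_span_range_iff_exists_fun A |>.mp hx
    refine ⟨fun j => e j * w, fun j => Ideal.mul_mem_left _ _ hw, ?_⟩
    rw [Finset.sum_mul]
    exact Finset.sum_congr rfl fun j _ => by rw [smul_eq_mul]; ring
  · obtain ⟨c, hc, rfl⟩ := hx
    obtain ⟨c', hc', rfl⟩ := hz
    exact ⟨c + c', fun j => add_mem (hc j) (hc' j), by
      simp [mul_add, Finset.sum_add_distrib]⟩

/-- Regularity modulo the powers, given linear type. -/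
theorem mem_pow_of_mul_mem {n : ℕ} (a : Fin n → A)
    (K : ∀ (d : ℕ) (G : MvPolynomial (Fin n) A), G.IsHomogeneous d → eval a G = 0 → G ∈ kos a)
    (x : A) (hx : ∀ y, x * y ∈ Ideal.span (Set.range a) → y ∈ Ideal.span (Set.range a))
    (d : ℕ) (y : A) (hy : x * y ∈ Ideal.span (Set.range a) ^ d) :
    y ∈ Ideal.span (Set.range a) ^ d := by
  have hI : Ideal.span (a '' Set.univ) = Ideal.span (Set.range a) := by rw [Set.image_univ]
  induction d with
  | zero => simp
  | succ d ih =>
    have hy' := ih (Ideal.pow_le_pow_right (Nat.le_succ d) hy)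
    obtain ⟨P, hP, -, rfl⟩ := exists_poly_of_mem_pow a Set.univ d y (hI.symm ▸ hy')
    obtain ⟨c, hc, he⟩ := exists_homogeneous_combination a d _ hy
    have hQ : ∀ j, ∃ Q : MvPolynomial (Fin n) A, Q.IsHomogeneous d ∧ eval a Q = c j := fun j => by
      obtain ⟨Q, hQ, -, hQ'⟩ := exists_poly_of_mem_pow a Set.univ d (c j) (hI.symm ▸ hc j)
      exact ⟨Q, hQ, hQ'⟩
    choose Q hQ hQe using hQ
    have hker := K d (C x * P - ∑ j, C (a j) * Q j)
      ((hP.C_mul x).sub (IsHomogeneous.sum _ _ _ fun j _ => (hQ j).C_mul _)) (by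
        simp [hQe, he])
    rw [pow_succ']
    have hmem := eval_mem_mul_pow a (Ideal.span (Set.range a)) Set.univ d P hP (suppIn_univ P) ?_
    · rwa [hI] at hmem
    intro m
    refine hx _ ?_
    have h1 := coeff_mem_of_mem_kos a hker m
    rw [coeff_sub, coeff_C_mul, coeff_sum] at h1
    have h2 : ∑ j, (C (a j) * Q j).coeff m ∈ Ideal.span (Set.range a) :=
      sum_mem fun j _ => by
        rw [coeff_C_mul]
        exact Ideal.mul_mem_right _ _ (Ideal.subset_span ⟨j, rfl⟩)
    simpa using add_mem h1 h2

/-- Homogeneous polynomial relations of a regular sequence are generated by the Koszul ones. -/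
theorem mem_kos : ∀ {n : ℕ} (a : Fin n → A), RegFam a →
    ∀ (d : ℕ) (G : MvPolynomial (Fin n) A), G.IsHomogeneous d → eval a G = 0 → G ∈ kos a := by
  intro n
  induction n with
  | zero =>
    intro a _ d G _ h0
    have hG : G = C (coeff 0 G) := eq_C_of_isEmpty G
    rw [hG, eval_C] at h0
    rw [hG, h0, map_zero]
    exact zero_mem _
  | succ n IH =>
    intro a ha d
    have K := IH (a ∘ Fin.castSucc) (regFam_castSucc a ha)
    induction d with
    | zero =>
      intro G hG h0
      have hG' : G = C (coeff 0 G) := totalDegree_eq_zero_iff_eq_C.mp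
        (Nat.le_zero.mp hG.totalDegree_le)
      rw [hG', eval_C] at h0
      rw [hG', h0, map_zero]
      exact zero_mem _
    | succ d ihd =>
      intro G hG h0
      let s : Fin (n + 1) →₀ ℕ := Finsupp.single (Fin.last n) 1
      let H := G.divMonomial s
      let G' := G.modMonomial s
      have hGe : X (Fin.last n) * H + G' = G := divMonomial_add_modMonomial_single G _
      have hH : H.IsHomogeneous d := by
        intro m hm
        rw [show coeff m H = coeff (s + m) G from coeff_divMonomial s G m] at hm
        have h1 := hG hm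
        rw [map_add] at h1
        have h2 : Finsupp.weight (1 : Fin (n + 1) → ℕ) s = 1 := by simp [s, Finsupp.weight_single]
        omega
      have hG' : G'.IsHomogeneous (d + 1) := by
        intro m hm
        by_cases hs : s ≤ m
        · exact absurd (coeff_modMonomial_of_le G hs) hm
        · rw [coeff_modMonomial_of_not_le G hs] at hm
          exact hG hm
      have hvars : (↑G'.vars : Set (Fin (n + 1))) ⊆ Set.range Fin.castSucc := by
        intro i hi
        obtain ⟨m, hm, him⟩ := (mem_vars i).mp hi
        rw [Fin.range_castSucc]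
        by_contra hlast
        have hi' : i = Fin.last n := Fin.ext (le_antisymm (Nat.le_of_lt_succ i.isLt) (not_lt.mp hlast))
        subst hi'
        refine mem_support_iff.mp hm (coeff_modMonomial_of_le G ?_)
        rw [Finsupp.single_le_iff]
        exact Nat.one_le_iff_ne_zero.mpr (Finsupp.mem_support_iff.mp him)
      obtain ⟨R, hR⟩ := exists_rename_eq_of_vars_subset_range G' Fin.castSucc
        (Fin.castSucc_injective n) hvars
      have hRh : R.IsHomogeneous (d + 1) :=
        (IsHomogeneous.rename_isHomogeneous_iff (Fin.castSucc_injective n)).mp (hR ▸ hG')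
      have he : eval a G = a (Fin.last n) * eval a H + eval (a ∘ Fin.castSucc) R := by
        conv_lhs => rw [← hGe, ← hR]
        rw [map_add, map_mul, eval_X, eval_rename]
      rw [h0] at he
      -- the value of `H` lies in the power of the smaller ideal
      have hI : Ideal.span ((a ∘ Fin.castSucc) '' Set.univ) =
          Ideal.span (Set.range (a ∘ Fin.castSucc)) := by rw [Set.image_univ]
      have hRmem : eval (a ∘ Fin.castSucc) R ∈ Ideal.span (Set.range (a ∘ Fin.castSucc)) ^ (d + 1) := by
        have := eval_mem_mul_pow (a ∘ Fin.castSucc) ⊤ Set.univ (d + 1) R hRh (suppIn_univ R)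
          (fun _ => Submodule.mem_top)
        rwa [Ideal.top_mul, hI] at this
      have hy : eval a H ∈ Ideal.span (Set.range (a ∘ Fin.castSucc)) ^ (d + 1) := by
        refine mem_pow_of_mul_mem _ K (a (Fin.last n)) (fun y hy => ?_) _ _ ?_
        · rw [← span_castSucc a] at hy ⊢
          exact ha (Fin.last n) y hy
        · rw [eq_neg_of_add_eq_zero_left he.symm]
          exact neg_mem hRmem
      obtain ⟨c, hc, hce⟩ := exists_homogeneous_combination _ d _ hy
      have hQ : ∀ j, ∃ Q : MvPolynomial (Fin n) A,
          Q.IsHomogeneous d ∧ eval (a ∘ Fin.castSucc) Q = c j := fun j => by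
        obtain ⟨Q, hQ, -, hQ'⟩ :=
          exists_poly_of_mem_pow (a ∘ Fin.castSucc) Set.univ d (c j) (hI.symm ▸ hc j)
        exact ⟨Q, hQ, hQ'⟩
      choose Q hQ hQe using hQ
      have h1 : H - ∑ j, C (a j.castSucc) * rename Fin.castSucc (Q j) ∈ kos a := by
        refine ihd _ (hH.sub (IsHomogeneous.sum _ _ _ fun j _ =>
          (IsHomogeneous.rename_isHomogeneous (hQ j)).C_mul _)) ?_
        simp [eval_rename, hQe, hce]
      have h2 : R + C (a (Fin.last n)) * ∑ j, X j * Q j ∈ kos (a ∘ Fin.castSucc) := by
        refine K (d + 1) _ (hRh.add ((IsHomogeneous.sum _ _ _ fun j _ => ?_).C_mul _)) ?_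
        · exact add_comm 1 d ▸ (isHomogeneous_X A j).mul (hQ j)
        · simp only [map_add, map_mul, eval_C, map_sum, eval_X, hQe]
          rw [← hce, add_comm]
          exact he.symm
      have h3 : ∑ j, (X (Fin.last n) * C (a j.castSucc) - X j.castSucc * C (a (Fin.last n))) *
          rename Fin.castSucc (Q j) ∈ kos a := by
        refine sum_mem fun j _ => Ideal.mul_mem_right _ _ ?_
        exact Ideal.subset_span ⟨j.castSucc, Fin.last n, by ring⟩
      have e : G = X (Fin.last n) * (H - ∑ j, C (a j.castSucc) * rename Fin.castSucc (Q j)) +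
          rename Fin.castSucc (R + C (a (Fin.last n)) * ∑ j, X j * Q j) +
          ∑ j, (X (Fin.last n) * C (a j.castSucc) - X j.castSucc * C (a (Fin.last n))) *
            rename Fin.castSucc (Q j) := by
        conv_lhs => rw [← hGe, ← hR]
        simp only [map_add, map_mul, map_sum, rename_C, rename_X, mul_sub, Finset.mul_sum, sub_mul,
          Finset.sum_sub_distrib, mul_assoc, mul_left_comm (C (a (Fin.last n)))]
        ring
      rw [e]
      exact add_mem (add_mem (Ideal.mul_mem_left _ _ h1) (rename_mem_kos a h2)) h3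

theorem regFam_ofFn {n : ℕ} (a : Fin n → A)
    (ha : RingTheory.Sequence.IsWeaklyRegular A (List.ofFn a)) : RegFam a := by
  have h := regFam_of_isWeaklyRegular ha
  intro i x hx
  let i' : Fin (List.ofFn a).length := i.cast (List.length_ofFn).symm
  have hset : (fun j : Fin (List.ofFn a).length => (List.ofFn a)[j]) '' {j | j < i'} =
      a '' {j | j < i} := by
    ext y
    constructor
    · rintro ⟨j, hj, rfl⟩
      exact ⟨j.cast List.length_ofFn, hj, by simp; rfl⟩
    · rintro ⟨j, hj, rfl⟩
      exact ⟨j.cast (List.length_ofFn).symm, hj, by simp⟩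
  have := h i' x (by
    rw [hset]
    simpa [i'] using hx)
  rwa [hset] at this

/-- The evaluation on the Rees algebra of a homogeneous polynomial. -/
theorem aeval_homogeneous {n : ℕ} (a : Fin n → A) {d : ℕ} {G : MvPolynomial (Fin n) A}
    (hG : G.IsHomogeneous d) :
    aeval (fun i : Fin n => Polynomial.C (a i) * (Polynomial.X : Polynomial A)) G =
      Polynomial.C (eval a G) * Polynomial.X ^ d := by
  rw [aeval_def, eval₂_eq, eval_eq, map_sum, Finset.sum_mul]
  refine Finset.sum_congr rfl fun m hm => ?_
  simp only [mul_pow, Finset.prod_mul_distrib, map_mul, map_prod, map_pow]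
  rw [Finset.prod_pow_eq_pow_sum, ← hG.degree_eq_sum_deg_support hm,
    Polynomial.algebraMap_eq, mul_assoc]

theorem ker_rees {n : ℕ} (a : Fin n → A)
    (ha : RingTheory.Sequence.IsWeaklyRegular A (List.ofFn a)) :
    RingHom.ker (aeval (R := A) (fun i : Fin n => Polynomial.C (a i) * (Polynomial.X : Polynomial A))) =
      kos a := by
  refine le_antisymm (fun G hG => ?_) (Ideal.span_le.mpr ?_)
  · rw [RingHom.mem_ker] at hG
    rw [← sum_homogeneousComponent G]
    refine sum_mem fun d hd => mem_kos a (regFam_ofFn a ha) d _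
      (homogeneousComponent_isHomogeneous d G) ?_
    have e : aeval (fun i : Fin n => Polynomial.C (a i) * (Polynomial.X : Polynomial A)) G =
        ∑ e ∈ Finset.range (G.totalDegree + 1),
          Polynomial.C (eval a (homogeneousComponent e G)) * Polynomial.X ^ e := by
      conv_lhs => rw [← sum_homogeneousComponent G, map_sum]
      exact Finset.sum_congr rfl fun e _ => aeval_homogeneous a (homogeneousComponent_isHomogeneous e G)
    rw [hG] at e
    have := congrArg (Polynomial.coeff · d) e.symm
    simpa [Polynomial.coeff_C_mul, Polynomial.coeff_X_pow, Finset.mem_range.mp hd] using this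
  · rintro _ ⟨i, j, rfl⟩
    simp only [SetLike.mem_coe, RingHom.mem_ker, map_sub, map_mul, aeval_C, aeval_X,
      Polynomial.algebraMap_eq]
    ring

theorem ker_away {n : ℕ} (a : Fin (n + 1) → A)
    (ha : RingTheory.Sequence.IsWeaklyRegular A (List.ofFn a)) :
    RingHom.ker (aeval (R := A) (S₁ := Localization.Away (a 0))
      (fun i : Fin n => IsLocalization.mk' (Localization.Away (a 0)) (a i.succ)
        (⟨a 0, Submonoid.mem_powers (a 0)⟩ : Submonoid.powers (a 0)))) =
      Ideal.span (Set.range fun i : Fin n => C (a 0) * X i - C (a i.succ)) := by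
  set v : Fin n → Localization.Away (a 0) := fun i => IsLocalization.mk' (Localization.Away (a 0))
    (a i.succ) (⟨a 0, Submonoid.mem_powers (a 0)⟩ : Submonoid.powers (a 0)) with hv
  set J := Ideal.span (Set.range fun i : Fin n => C (a 0) * X i - C (a i.succ)) with hJ
  have hva : ∀ i, algebraMap A (Localization.Away (a 0)) (a 0) * v i =
      algebraMap A (Localization.Away (a 0)) (a i.succ) := fun i =>
    IsLocalization.mk'_spec' _ (a i.succ)
      (⟨a 0, Submonoid.mem_powers (a 0)⟩ : Submonoid.powers (a 0))
  have hreg0 : ∀ x : A, a 0 * x = 0 → x = 0 := by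
    intro x hx
    have hempty : Ideal.span (a '' {j | j < 0}) = (⊥ : Ideal A) := by
      rw [Ideal.span_eq_bot]
      rintro _ ⟨j, hj, rfl⟩
      exact absurd hj (Fin.not_lt_zero j)
    have := regFam_ofFn a ha 0 x (by rw [hempty, hx]; exact zero_mem _)
    rwa [hempty] at this
  refine le_antisymm (fun f hf => ?_) (Ideal.span_le.mpr ?_)
  · rw [RingHom.mem_ker] at hf
    -- dehomogenization
    let δ : MvPolynomial (Fin (n + 1)) A →ₐ[A] MvPolynomial (Fin n) A :=
      aeval (Fin.cases 1 X)
    let ε : MvPolynomial (Fin (n + 1)) A →ₐ[A] Localization.Away (a 0) :=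
      aeval fun i => algebraMap A _ (a i)
    have key : ∀ D, ∀ g : MvPolynomial (Fin n) A, g.totalDegree ≤ D →
        ∃ G : MvPolynomial (Fin (n + 1)) A, G.IsHomogeneous D ∧ δ G = g ∧
          ε G = algebraMap A _ (a 0 ^ D) * aeval v g := by
      intro D g hg
      refine ⟨∑ m ∈ g.support, C (g.coeff m) * X 0 ^ (D - m.sum fun _ e => e) *
        rename Fin.succ (monomial m 1), IsHomogeneous.sum _ _ _ fun m hm => ?_, ?_, ?_⟩
      · have hle : (m.sum fun _ e => e) ≤ D := (le_totalDegree hm).trans hg
        have h1 := ((isHomogeneous_X A (0 : Fin (n + 1))).pow (D - m.sum fun _ e => e)).C_mul (g.coeff m)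
        have h2 : (rename Fin.succ (monomial m (1 : A))).IsHomogeneous (m.sum fun _ e => e) :=
          IsHomogeneous.rename_isHomogeneous (isHomogeneous_monomial 1 rfl)
        have := h1.mul h2
        rwa [one_mul, Nat.sub_add_cancel hle] at this
      · simp only [δ, map_sum, map_mul, map_pow, aeval_C, aeval_X, Fin.cases_zero, one_pow, mul_one,
          aeval_rename]
        conv_rhs => rw [g.as_sum]
        refine Finset.sum_congr rfl fun m _ => ?_
        rw [show (Fin.cases (1 : MvPolynomial (Fin n) A) X ∘ Fin.succ) = X from funext fun i => by simp,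
          aeval_X_left_apply, algebraMap_eq, C_mul_monomial, mul_one]
      · simp only [ε, map_sum, map_mul, map_pow, aeval_C, aeval_X, aeval_rename]
        conv_rhs => rw [g.as_sum, map_sum, Finset.mul_sum]
        refine Finset.sum_congr rfl fun m hm => ?_
        have hle : (m.sum fun _ e => e) ≤ D := (le_totalDegree hm).trans hg
        rw [aeval_monomial, aeval_monomial, map_one, one_mul]
        simp only [Finsupp.prod, Function.comp_apply, ← hva, mul_pow, Finset.prod_mul_distrib,
          Finset.prod_pow_eq_pow_sum]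
        rw [Finsupp.sum] at hle ⊢
        conv_rhs => rw [← Nat.sub_add_cancel hle, pow_add]
        ring
    obtain ⟨G, hG, hδ, hε⟩ := key f.totalDegree f le_rfl
    rw [hf, mul_zero] at hε
    have h0 : eval a G = 0 := by
      have hinj : Function.Injective (algebraMap A (Localization.Away (a 0))) := by
        refine IsLocalization.injective _ (fun x hx => ?_) (M := Submonoid.powers (a 0))
        obtain ⟨k, rfl⟩ := hx
        refine mem_nonZeroDivisors_iff_right.mpr fun y hy => ?_
        clear hε hδ hG
        induction k generalizing y with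
        | zero => simpa using hy
        | succ k ih => exact hreg0 y (ih _ (by rw [← hy]; ring))
      apply hinj
      rw [map_zero, ← hε]
      show algebraMap A _ (eval a G) = aeval (fun i => algebraMap A _ (a i)) G
      exact (comp_aeval_apply a (Algebra.ofId A (Localization.Away (a 0))) G)
    have hmem := mem_kos a (regFam_ofFn a ha) _ G hG h0
    rw [← hδ]
    have hle : (kos a).map δ ≤ J := by
      rw [kos, Ideal.map_span, Ideal.span_le]
      rintro _ ⟨_, ⟨i, j, rfl⟩, rfl⟩
      have hgen : ∀ l : Fin n, C (a 0) * X l - C (a l.succ) ∈ J := fun l => Ideal.subset_span ⟨l, rfl⟩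
      have hmk : ∀ l : Fin (n + 1), Ideal.Quotient.mk J (C (a l)) =
          Ideal.Quotient.mk J (C (a 0) * (Fin.cases 1 X : Fin (n + 1) → MvPolynomial (Fin n) A) l) := by
        intro l
        induction l using Fin.cases with
        | zero => simp
        | succ l => exact (Ideal.Quotient.eq.mpr (by simpa using hgen l)).symm
      rw [SetLike.mem_coe, ← Ideal.Quotient.eq_zero_iff_mem]
      simp only [δ, map_sub, map_mul, aeval_C, aeval_X, algebraMap_eq]
      rw [hmk i, hmk j, map_mul, map_mul]
      ring
    exact hle (Ideal.mem_map_of_mem _ hmem)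
  · rintro _ ⟨i, rfl⟩
    simp only [SetLike.mem_coe, RingHom.mem_ker, map_sub, map_mul, aeval_C, aeval_X]
    exact sub_eq_zero.mpr (hva i)

end Groth.Agent.LinTypeLib
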